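import Groth.Agent.CurvesA.SepInter
import Groth.Agent.FunMor.K350.Push
import Groth.Agent.FunMor.K350.Quot
import Groth.Agent.FunMor.K355.FMCoprod
import Groth.Agent.FunMor.K350.KerGlue
import Groth.Agent.FormalB.PullCoh
import Groth.Agent.CycB.CohProp

/-!
# The kernel of a right exact functor of Fourier–Mukai type is a quotient of `q^* q_* K`
-/

set_option autoImplicit false
universe u
open CategoryTheory CategoryTheory.Limits AlgebraicGeometry MonoidalCategory

namespace K997.FMCoh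

open Groth.Agent.FormalB.ModPow K350.WattsQ K350.Desc K350.Ker
open Groth.Agent.Models2.QCohPush Groth.Agent.Fdesc.LocGen
open scoped Groth.Agent.Dcoh.MonCat

variable {X Y P S : Scheme.{u}}

/-- The map `O_X ⟶ j_* O_U` given by a function on an open subscheme. -/
noncomputable def mulU (U : X.Opens) [QuasiCompact U.ι] (s : Γ(U.toScheme, ⊤)) :
    OQ X ⟶ (pushQ U.ι).obj (OQ U.toScheme) :=
  ObjectProperty.homMk (homOf (M := (Scheme.Modules.pushforward U.ι).obj
    (Coh.structureModule U.toScheme)) (ofFun (X := U.toScheme) (U := ⊤) s))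

theorem hom_ext_aff {M N : X.Modules} (φ ψ : M ⟶ N)
    (h : ∀ (W : X.affineOpens) (x : Γ(M, W.1)), φ.app W.1 x = ψ.app W.1 x) : φ = ψ := by
  apply Scheme.Modules.hom_ext
  intro V
  ext x
  refine res_ext N (fun W : {W : X.affineOpens // W.1 ≤ V} => W.1.1) (fun W => W.2) ?_ fun W => ?_
  · intro y hy
    obtain ⟨W, hW, hyW, hle⟩ := exists_isAffineOpen_mem_and_subset (x := y) (U := V) hy
    exact TopologicalSpace.Opens.mem_iSup.2 ⟨⟨⟨W, hW⟩, hle⟩, hyW⟩
  · rw [← app_res, ← app_res]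
    exact h W.1 _

/-- Two maps out of `j_* O_U` are equal if they agree on the functions on `U`. -/
theorem hom_ext_mulU [X.IsSeparated] (U : X.affineOpens) [QuasiCompact U.1.ι] {N : QCohCat.QCoh X}
    (φ ψ : (pushQ U.1.ι).obj (OQ U.1.toScheme) ⟶ N) (h : ∀ s, mulU U.1 s ≫ φ = mulU U.1 s ≫ ψ) :
    φ = ψ := by
  refine ObjectProperty.hom_ext _ (hom_ext_aff _ _ fun W x => ?_)
  have hle : U.1.ι ''ᵁ (U.1.ι ⁻¹ᵁ W.1) = U.1 ⊓ W.1 :=
    (U.1.functor_map_eq_inf W.1).trans (inf_comm _ _)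
  have hle1 : U.1.ι ''ᵁ ⊤ = U.1 := by simp
  let e : Γ(X, U.1 ⊓ W.1) →+* Γ(X, U.1.ι ''ᵁ (U.1.ι ⁻¹ᵁ W.1)) := (X.presheaf.map (homOfLE hle.le).op).hom
  have he : Function.Surjective e := by
    intro y
    refine ⟨(X.presheaf.map (homOfLE hle.ge).op).hom y, ?_⟩
    change (X.presheaf.map (homOfLE hle.ge).op ≫ X.presheaf.map (homOfLE hle.le).op).hom y = y
    rw [← Functor.map_comp]
    have : (homOfLE hle.ge).op ≫ (homOfLE hle.le).op = 𝟙 _ := Subsingleton.elim _ _
    rw [this, X.presheaf.map_id]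
    rfl
  obtain ⟨r, hr⟩ := he x
  have key : ∀ r : Γ(X, U.1 ⊓ W.1), φ.hom.app W.1 (e r) = ψ.hom.app W.1 (e r) := by
    intro r
    have hr := Groth.Agent.CurvesA.SepInter.mem_closure X U.2 W.2 r
    induction hr using AddSubmonoid.closure_induction with
    | mem y hy =>
      obtain ⟨p, q, rfl⟩ := hy
      let s : Γ(U.1.toScheme, ⊤) := (X.presheaf.map (homOfLE hle1.le).op).hom p
      have h1 : φ.hom.app W.1 ((mulU U.1 s).hom.app W.1 (ofFun (X := X) (U := W.1) q)) =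
          ψ.hom.app W.1 ((mulU U.1 s).hom.app W.1 (ofFun (X := X) (U := W.1) q)) :=
        congrArg (fun t => t.hom.app W.1 (ofFun (X := X) (U := W.1) q)) (h s)
      have h2 : (mulU U.1 s).hom.app W.1 (ofFun (X := X) (U := W.1) q) =
        e ((X.presheaf.map (homOfLE (inf_le_left : U.1 ⊓ W.1 ≤ U.1)).op).hom p *
          (X.presheaf.map (homOfLE (inf_le_right : U.1 ⊓ W.1 ≤ W.1)).op).hom q) := by
        rw [map_mul, mul_comm]
        have h3 : (mulU U.1 s).hom.app W.1 (ofFun (X := X) (U := W.1) q) =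
          ((U.1.ι.app W.1).hom q * (U.1.toScheme.presheaf.map
            (homOfLE (le_top : U.1.ι ⁻¹ᵁ W.1 ≤ ⊤)).op).hom s : Γ(U.1.toScheme, U.1.ι ⁻¹ᵁ W.1)) := rfl
        have h4 : (U.1.ι.app W.1).hom q =
            e ((X.presheaf.map (homOfLE (inf_le_right : U.1 ⊓ W.1 ≤ W.1)).op).hom q) := by
          rw [Scheme.Opens.ι_app]
          change _ = (X.presheaf.map (homOfLE inf_le_right).op ≫ X.presheaf.map (homOfLE hle.le).op).hom q
          rw [← Functor.map_comp]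
          rfl
        have h5 : (U.1.toScheme.presheaf.map
            (homOfLE (le_top : U.1.ι ⁻¹ᵁ W.1 ≤ ⊤)).op).hom s =
            e ((X.presheaf.map (homOfLE (inf_le_left : U.1 ⊓ W.1 ≤ U.1)).op).hom p) := by
          change (X.presheaf.map (homOfLE hle1.le).op ≫ X.presheaf.map (homOfLE (U.1.ι.image_mono le_top)).op).hom p =
            (X.presheaf.map (homOfLE inf_le_left).op ≫ X.presheaf.map (homOfLE hle.le).op).hom p
          rw [← Functor.map_comp, ← Functor.map_comp]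
          rfl
        exact h3.trans (congrArg₂ (fun a b : Γ(U.1.toScheme, U.1.ι ⁻¹ᵁ W.1) => a * b) h4 h5)
      rw [h2] at h1
      exact h1
    | zero => 
      rw [map_zero]
      exact (map_zero _).trans (map_zero _).symm
    | add a b _ _ ha hb =>
      rw [map_add]
      exact (map_add _ _ _).trans ((congrArg₂ (· + ·) ha hb).trans (map_add _ _ _).symm)
  rw [← hr]
  exact key r

/-- The functions on `U` generate `j_* O_U` over `O_X`. -/
theorem epi_mulU [X.IsSeparated] (U : X.affineOpens) [QuasiCompact U.1.ι] :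
    Epi (Sigma.desc (fun s : Γ(U.1.toScheme, ⊤) => mulU U.1 s)) := by
  refine ⟨fun φ ψ h => hom_ext_mulU U φ ψ fun s => ?_⟩
  rw [← Sigma.ι_desc (fun s : Γ(U.1.toScheme, ⊤) => mulU U.1 s) s, Category.assoc, h, Category.assoc]

variable {p : P ⟶ X} {q : P ⟶ Y} {a : X ⟶ S} {b : Y ⟶ S}

/-- A morphism of kernels which dies on `O_X` dies on every quotient of a sum of copies of `O_X`. -/
theorem FMQmap_eq_zero [QuasiCompact q] [QuasiSeparated q] {K K' : P.Modules} (hK : Coh.IsQCoh K)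
    (φ : K ⟶ K') (h0 : (FMQmap p q φ).app (OQ X) = 0) {ι : Type u} {M : QCohCat.QCoh X}
    (f : ι → (OQ X ⟶ M)) (hf : Epi ((FMQ p q K).map (Sigma.desc f))) :
    (FMQmap p q φ).app M = 0 := by
  have h1 := K355.preservesCoproducts_FM (X := X) p q K hK ι
  rw [← cancel_epi ((FMQ p q K).map (Sigma.desc f)), comp_zero, (FMQmap p q φ).naturality]
  refine (isColimitOfPreserves (FMQ p q K) (coproductIsCoproduct (fun _ : ι => OQ X))).hom_ext fun ⟨s⟩ => ?_
  rw [comp_zero]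
  change (FMQ p q K).map (Sigma.ι (fun _ : ι => OQ X) s) ≫ _ = 0
  rw [← Category.assoc, (FMQmap p q φ).naturality, h0, zero_comp, zero_comp]

/-- Two morphisms out of a quasi-coherent module agree if they agree on the opens of an affine cover. -/
theorem hom_ext_cover {A B : P.Modules} (hA : Coh.IsQCoh A) {ι : Type*} (U : ι → P.Opens)
    (hU : ∀ i, IsAffineOpen (U i)) (hc : ∀ x : P, ∃ i, x ∈ U i) (h₁ h₂ : A ⟶ B)
    (key : ∀ i (t : Γ(A, U i)), h₁.app (U i) t = h₂.app (U i) t) : h₁ = h₂ := by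
  apply Scheme.Modules.hom_ext
  intro V
  ext t
  have hloc : ∀ x : V, ∃ (W : P.Opens) (hW : W ≤ V), x.1 ∈ W ∧
      res B hW (h₁.app V t) = res B hW (h₂.app V t) := by
    intro x
    obtain ⟨i, hxi⟩ := hc x.1
    obtain ⟨f, hf, hxf⟩ := (hU i).exists_basicOpen_le ⟨x.1, x.2⟩ hxi
    refine ⟨P.basicOpen f, hf, hxf, ?_⟩
    obtain ⟨n, t', ht'⟩ := (Groth.Agent.Ega1.QCohLoc.isLocAt_of_isQCoh hA (hU i) f).surj (res A hf t)
    have ht'' : res A (P.basicOpen_le f) t' = ores (P.basicOpen_le f) f ^ n • res A hf t := ht'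
    have hu : IsUnit (ores (P.basicOpen_le f) f ^ n) :=
      (P.toRingedSpace.isUnit_res_basicOpen f).pow n
    have e1 : h₁.app (P.basicOpen f) (res A (P.basicOpen_le f) t') =
        h₂.app (P.basicOpen f) (res A (P.basicOpen_le f) t') := by
      rw [app_res, app_res, key i t']
    rw [ht'', Scheme.Modules.Hom.app_smul, Scheme.Modules.Hom.app_smul] at e1
    have e2 := hu.smul_left_cancel.mp e1
    rw [app_res, app_res] at e2
    exact e2
  choose W hW hxW hres using hloc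
  exact res_ext B W hW (fun x hx => TopologicalSpace.Opens.mem_iSup.mpr ⟨⟨x, hx⟩, hxW _⟩) hres

/-- Direct image along an affine morphism is faithful on quasi-coherent modules. -/
theorem eq_zero_of_push (q : P ⟶ Y) [IsAffineHom q] {A B : P.Modules} (hA : Coh.IsQCoh A) (φ : A ⟶ B)
    (h : (Coh.push q).map φ = 0) : φ = 0 := by
  refine hom_ext_cover hA (fun V : Y.affineOpens => q ⁻¹ᵁ V.1) (fun V => V.2.preimage q) (fun x => ?_) φ 0
    fun V t => ?_
  · obtain ⟨V, hV, hxV, -⟩ := exists_isAffineOpen_mem_and_subset (x := q x) (U := (⊤ : Y.Opens)) trivial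
    exact ⟨⟨V, hV⟩, hxV⟩
  · exact congrArg (fun ψ => ψ.app V.1 t) h

/-- The counit `q^* q_* K ⟶ K`. -/
noncomputable abbrev ev (q : P ⟶ Y) (K : P.Modules) :
    (Scheme.Modules.pullback q).obj ((Coh.push q).obj K) ⟶ K :=
  (Scheme.Modules.pullbackPushforwardAdjunction q).counit.app K

theorem push_eq_zero (q : P ⟶ Y) {K K' : P.Modules} (φ : K ⟶ K') (h : ev q K ≫ φ = 0) :
    (Coh.push q).map φ = 0 := by
  have h1 := (Scheme.Modules.pullbackPushforwardAdjunction q).right_triangle_components K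
  calc (Coh.push q).map φ = (Scheme.Modules.pullbackPushforwardAdjunction q).unit.app _ ≫
        (Coh.push q).map (ev q K) ≫ (Coh.push q).map φ := by
          rw [← Category.assoc]
          exact ((congrArg (· ≫ (Coh.push q).map φ) h1).trans (Category.id_comp _)).symm
    _ = 0 := by
          rw [← Functor.map_comp, h, Functor.map_zero, comp_zero]

theorem epi_ev [IsAffine S] [X.IsSeparated] [QuasiCompact q] [QuasiSeparated q]
    (sq : IsPullback p q a b) {K : P.Modules} (hK : Coh.IsQCoh K)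
    (hE : ∀ {M N : QCohCat.QCoh X} (f : M ⟶ N), Epi f → Epi ((FMQ p q K).map f)) :
    Epi (ev q K) := by
  let φ := cokernel.π (ev q K)
  have h0 : (Coh.push q).map φ = 0 := push_eq_zero q φ (cokernel.condition _)
  have hqK : Coh.IsQCoh ((Scheme.Modules.pullback q).obj ((Coh.push q).obj K)) :=
    K355.isQCoh_pull q _ (Groth.Agent.Ega1.QcqsPush.isQCoh_pushforward q _ hK)
  have hK' : Coh.IsQCoh (cokernel (ev q K)) :=
    Groth.Agent.PerfA.QCohSerre.isQCoh_cokernel (ev q K) hqK hK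
  have h1 : (FMQmap p q φ).app (OQ X) = 0 := by
    have h2 := unitQ_naturality (X := X) p q φ
    rw [h0, comp_zero] at h2
    exact (cancel_mono (unitQ p q (cokernel (ev q K))).hom).1 (h2.trans zero_comp.symm)
  -- on `p⁻¹ U` for an affine open `U`
  have key : ∀ U : X.affineOpens,
      (Scheme.Modules.pullback (p ⁻¹ᵁ U.1).ι).map φ = 0 := by
    intro U
    have hU : IsAffine U.1.toScheme := U.2
    have hUι : IsAffineHom U.1.ι := by
      have : IsAffineHom (U.1.ι ≫ terminal.from X) := inferInstance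
      exact IsAffineHom.of_comp _ (terminal.from X)
    have h3 : (FMQmap p q φ).app ((pushQ U.1.ι).obj (OQ U.1.toScheme)) = 0 :=
      FMQmap_eq_zero hK φ h1 (fun s => mulU U.1 s) (hE _ (epi_mulU U))
    have h4 : IsPullback (p ∣_ U.1) (p ⁻¹ᵁ U.1).ι U.1.ι p := isPullback_morphismRestrict p U.1
    have h5 := congrArg (fun t => t.app (OQ U.1.toScheme))
      (dIso_nat p q U.1.ι (p ∣_ U.1) ((p ⁻¹ᵁ U.1).ι ≫ q) (p ⁻¹ᵁ U.1).ι h4 rfl hK hK' φ)
    simp only [NatTrans.comp_app, Functor.whiskerLeft_app] at h5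
    rw [h3, zero_comp] at h5
    have h6 : (FMQmap (p ∣_ U.1) ((p ⁻¹ᵁ U.1).ι ≫ q)
        ((Scheme.Modules.pullback (p ⁻¹ᵁ U.1).ι).map φ)).app (OQ U.1.toScheme) = 0 := by
      exact (cancel_epi ((dIso p q U.1.ι (p ∣_ U.1) ((p ⁻¹ᵁ U.1).ι ≫ q) (p ⁻¹ᵁ U.1).ι h4 rfl K
        hK).hom.app (OQ U.1.toScheme))).1 (h5.symm.trans comp_zero.symm)
    have h7 := unitQ_naturality (p ∣_ U.1) ((p ⁻¹ᵁ U.1).ι ≫ q)
      ((Scheme.Modules.pullback (p ⁻¹ᵁ U.1).ι).map φ)
    rw [h6, zero_comp] at h7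
    have sq2 : IsPullback (p ∣_ U.1) ((p ⁻¹ᵁ U.1).ι ≫ q) (U.1.ι ≫ a) b :=
      (isPullback_morphismRestrict p U.1).paste_vert sq
    have hq2 : IsAffineHom ((p ⁻¹ᵁ U.1).ι ≫ q) := MorphismProperty.of_isPullback sq2
      (inferInstance : IsAffineHom (U.1.ι ≫ a))
    refine eq_zero_of_push ((p ⁻¹ᵁ U.1).ι ≫ q) (K355.isQCoh_pull _ K hK) _ ?_
    exact (cancel_epi (unitQ (p ∣_ U.1) ((p ⁻¹ᵁ U.1).ι ≫ q)
      ((Scheme.Modules.pullback (p ⁻¹ᵁ U.1).ι).obj K)).hom).1 (h7.symm.trans comp_zero.symm)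
  have hφ : φ = 0 := by
    refine hom_ext_cover hK (fun W : {W : P.affineOpens // ∃ U : X.affineOpens, W.1 ≤ p ⁻¹ᵁ U.1} => W.1.1)
      (fun W => W.1.2) (fun x => ?_) φ 0 ?_
    · obtain ⟨U, hU, hxU, -⟩ := exists_isAffineOpen_mem_and_subset (x := p x) (U := (⊤ : X.Opens)) trivial
      obtain ⟨W, hW, hxW, hle⟩ := exists_isAffineOpen_mem_and_subset (x := x) (U := p ⁻¹ᵁ U) hxU
      exact ⟨⟨⟨W, hW⟩, ⟨U, hU⟩, hle⟩, hxW⟩
    · rintro ⟨⟨W, hW⟩, U, hWU⟩ t
      have h8 : (Scheme.Modules.restrictFunctor (p ⁻¹ᵁ U.1).ι).map φ = 0 := by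
        rw [← cancel_mono ((Scheme.Modules.restrictFunctorIsoPullback (p ⁻¹ᵁ U.1).ι).hom.app _),
          NatTrans.naturality, key U, comp_zero, zero_comp]
      obtain ⟨W0, rfl⟩ : ∃ W0 : (p ⁻¹ᵁ U.1).toScheme.Opens, (p ⁻¹ᵁ U.1).ι ''ᵁ W0 = W := by
        refine ⟨(p ⁻¹ᵁ U.1).ι ⁻¹ᵁ W, ?_⟩
        rw [Scheme.Hom.image_preimage_eq_opensRange_inf, Scheme.Opens.opensRange_ι]
        exact inf_eq_right.2 hWU
      exact congrArg (fun ψ => ψ.app W0 t) h8
  exact Preadditive.epi_of_cokernel_zero hφ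

/-- The kernel is coherent. -/
theorem isCoh [IsAffine S] [X.IsSeparated] [QuasiCompact q] [QuasiSeparated q]
    (sq : IsPullback p q a b) {K : P.Modules} (hK : Coh.IsQCoh K)
    (hE : ∀ {M N : QCohCat.QCoh X} (f : M ⟶ N), Epi f → Epi ((FMQ p q K).map f))
    (h : Coh.IsCoh ((Coh.push q).obj K)) : Coh.IsCoh K := by
  have := epi_ev sq hK hE
  exact Groth.Agent.CycB.CohProp.isCoh_of_epi (ev q K) (Groth.Agent.FormalB.PullCoh.isCoh_pullback q h) hK

end K997.FMCoh
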